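import Cfsg.Agent.Mrg.Omega.EDel.BxW.WeakA
import Cfsg.Agent.Mrg.Omega.EK3.UFixX
import Cfsg.Agent.Mrg.Omega.EK3.Rank
import Cfsg.Agent.Mrg.Omega.EDel.Bx.OfFg

section


/-!
# The universal frame over `B`, `q = 2`, with WEAK UNI (helper165 #26684; port of `Bx/Base.lean`)

No Sylow subgroup of `G`, no `P`: `ZJ = Ω₁(Z(B)) = ⟨z i⟩`, `B` a Sylow 2-subgroup of `C_G(ZJ)`, four-groups `W i ∋ z i`, an element
`ρ` which centralises the `z l`, `l ≠ i`, and moves `z i` in `W i`; every `B`-minimal `R` in a `C_G(z l)` which moves `ZJ`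
normalises one `W i` and centralises the `z l`, `l ≠ i` (UNI+).

* `Bw` : the frame (port of helper474's / helper388's `EK3/{Base,BaseE,Frame,Inst}`);
* `Bw.o2_CT_le_B`, `Bw.char2_CT`, `Bw.eab_ET`, `Bw.ET_le_O`, `Bw.ET_le_o2` : the groups `C_T = C_G(z_l : l ∈ T)`;
* `Bw.syl_Y`, `Bw.norm_Y`, `Bw.stab`, `Bw.parY`, `Bw.genY` (QP), `Bw.Q_eq`, `Bw.W_le_N`, `Bw.conj`.
-/

set_option autoImplicit false
set_option linter.unusedSectionVars false

namespace Cfsg.Agent.Omega.EDel.BxW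

open Subgroup Cfsg Cfsg.Agent.ZN.ChoiceBase
open Cfsg.Agent.ZN (zc zl o2)
open Cfsg.Agent.ZN.ChoiceSit (Syl o2_le_syl)
open Cfsg.Agent.Omega.NO3S.EThree.ExactA (eab_mono eab_sup eab_iff)
open Cfsg.Agent.Omega.EK3 (CT mem_CT CT_mono ET ZJ_le_ET CT_norm_ET V_le_ET CT_compl_le CT_compl_le' Yc mem_Yc Nc
  Y_norm_V Y_norm_N)
open Cfsg.Agent.MinSimple.MinParabolic (IsMinPar le_of_forall)
open Cfsg.Agent.MinSimple.VModule (zc_le normalizer_le_normalizer_zc le_normalizer_o2 o2_isPGroup le_o2 o2_le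
  le_centralizer_zc)
open scoped Pointwise

universe u

variable {G : Type u} [Group G]

/-- **The universal frame over `B`, `q = 2`.** -/
structure Bw [Finite G] (B J ZJ : Subgroup G) {ι : Type} (L W : ι → Subgroup G) (z : ι → G) : Prop where
  c2 : IsCharacteristicTwoType G
  two : IsPGroup 2 B
  wc : ∀ T : Subgroup G, IsPGroup 2 T → B ≤ T → T ≤ normalizer (B : Set G)
  syl : Syl B (centralizer (ZJ : Set G))
  zJB : ZJ ≤ zc B
  nB : normalizer (B : Set G) ≤ normalizer (ZJ : Set G)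
  WzB : ∀ i, ∀ x ∈ W i, (∀ b ∈ B, b * x = x * b) → x ∈ ZJ
  zJ : ∀ i, z i ∈ ZJ
  gen : ZJ ≤ closure (Set.range z)
  ne : ∀ i, z i ≠ 1
  inj : Function.Injective z
  zW : ∀ i, z i ∈ W i
  WB : ∀ i, W i ≤ B
  cardW : ∀ i, Nat.card (W i) = 4
  sqW : ∀ i, ∀ x ∈ W i, x ^ 2 = 1
  WJ : ∀ i, ∀ x ∈ W i, x ∈ ZJ → x = 1 ∨ x = z i
  BW : ∀ i, ∀ b ∈ B, ∀ x ∈ W i, b * x * b⁻¹ * x⁻¹ = 1 ∨ b * x * b⁻¹ * x⁻¹ = z i
  LY : ∀ i l, l ≠ i → L i ≤ centralizer ({z l} : Set G)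
  LW : ∀ i, L i ≤ normalizer (W i : Set G)
  Lmv : ∀ i, ¬ L i ≤ centralizer ({z i} : Set G)
  perm : ∀ g ∈ normalizer (B : Set G), ∀ i, ∃ j, g * z i * g⁻¹ = z j
  nJ : ∀ T : Subgroup G, IsPGroup 2 T → J ≤ T → normalizer (T : Set G) ≤ normalizer (ZJ : Set G)
  par : ∀ R : Subgroup G, (∃ l, R ≤ centralizer ({z l} : Set G)) → IsMinPar B R → Syl B R →
    R ⊓ centralizer (o2 R : Set G) ≤ o2 R → ¬ J ≤ o2 R → ¬ R ≤ centralizer (ZJ : Set G) →
    ∃ i, (∃ r ∈ R, r * z i * r⁻¹ ∈ W i ⊔ ZJ ∧ r * z i * r⁻¹ ∉ ZJ) ∧ ∀ l, l ≠ i → R ≤ centralizer ({z l} : Set G)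
  three : ∀ i j : ι, ∃ l, l ≠ i ∧ l ≠ j

namespace Bw

variable [Finite G] {B J ZJ : Subgroup G} {ι : Type} {L W : ι → Subgroup G} {z : ι → G} {T : Set ι}
  (h : Bw B J ZJ L W z)
include h

/-- some `ρ ∈ L i` moves `z i` in `W i` -/
theorem rho (i : ι) : ∃ ρ : G, (∀ l, l ≠ i → ρ * z l = z l * ρ) ∧ ρ * z i * ρ⁻¹ ∈ W i ∧ ρ * z i * ρ⁻¹ ≠ z i := by
  obtain ⟨ρ, h1, h2⟩ := SetLike.not_le_iff_exists.1 (h.Lmv i)
  refine ⟨ρ, fun l hl => mem_centralizer_singleton_iff.1 (h.LY i l hl h1),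
    (mem_normalizer_iff.1 (h.LW i h1) _).1 (h.zW i), fun e => h2 ?_⟩
  exact mem_centralizer_singleton_iff.2 (mul_inv_eq_iff_eq_mul.1 e)

theorem mem_J {x : G} (hx : x ∈ ZJ) : x ∈ B ∧ x ^ 2 = 1 ∧ ∀ b ∈ B, b * x = x * b := by
  exact mem_zc.1 (h.zJB hx)

theorem ZJB : ZJ ≤ B := fun _ hx => (h.mem_J hx).1

theorem sqJ {x : G} (hx : x ∈ ZJ) : x ^ 2 = 1 := (h.mem_J hx).2.1

theorem z_sq (i : ι) : z i ^ 2 = 1 := h.sqJ (h.zJ i)

theorem BD : B ≤ centralizer (ZJ : Set G) := h.syl.1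

theorem zz (i j : ι) : z i * z j = z j * z i := ((h.mem_J (h.zJ j)).2.2 _ (h.ZJB (h.zJ i)))

theorem JJ {x y : G} (hx : x ∈ ZJ) (hy : y ∈ ZJ) : x * y = y * x := (h.mem_J hy).2.2 _ (h.ZJB hx)

theorem mem_D {x : G} (hx : ∀ i, x * z i = z i * x) : x ∈ centralizer (ZJ : Set G) := by
  have h1 : ZJ ≤ centralizer ({x} : Set G) := by
    refine h.gen.trans ((closure_le _).2 ?_)
    rintro _ ⟨i, rfl⟩
    exact mem_centralizer_singleton_iff.2 (hx i).symm
  rw [mem_centralizer_iff]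
  exact fun y hy => mem_centralizer_singleton_iff.1 (h1 hy)

theorem D_comm {x : G} (hx : x ∈ centralizer (ZJ : Set G)) (i : ι) : x * z i = z i * x :=
  (mem_centralizer_iff.1 hx _ (h.zJ i)).symm

theorem D_le_CT (T : Set ι) : centralizer (ZJ : Set G) ≤ CT z T := fun _ hx => mem_CT.2 fun l _ => h.D_comm hx l

theorem B_le_CT (T : Set ι) : B ≤ CT z T := h.BD.trans (h.D_le_CT T)

theorem norm_ZJ : normalizer (B : Set G) ≤ normalizer (ZJ : Set G) := h.nB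

/-- some `ρ` moves `z i` out of `ZJ` -/
theorem exists_rho (i : ι) : ∃ ρ : G, (∀ l, l ≠ i → ρ * z l = z l * ρ) ∧ ρ * z i * ρ⁻¹ ∈ W i ∧ ρ * z i * ρ⁻¹ ∉ ZJ := by
  obtain ⟨ρ, h1, h2, h3⟩ := h.rho i
  refine ⟨ρ, h1, h2, fun h4 => ?_⟩
  rcases h.WJ i _ h2 h4 with e | e
  · exact h.ne i (conj_eq_one_iff.1 e)
  · exact h3 e

/-! ### `O₂(C_T)` -/

variable (T)

theorem o2_CT_norm : o2 (CT z T) ≤ normalizer (B : Set G) := by
  have hB : B ≤ normalizer (o2 (CT z T) : Set G) := (h.B_le_CT T).trans (le_normalizer_o2 _)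
  have h1 : IsPGroup 2 (B ⊔ o2 (CT z T) : Subgroup G) :=
    IsPGroup.to_sup_of_normal_right' h.two (o2_isPGroup _) hB
  exact le_sup_right.trans (h.wc _ h1 le_sup_left)

/-- **`O₂(C_T)` centralises `ZJ`** -/
theorem o2_CT_le_cent : o2 (CT z T) ≤ centralizer (ZJ : Set G) := by
  intro t ht
  have hle : o2 (CT z T) ≤ CT z T := o2_le _
  have hN := h.o2_CT_norm T
  have hCn : CT z T ≤ normalizer (o2 (CT z T) : Set G) := le_normalizer_o2 _
  refine h.mem_D fun i => ?_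
  by_cases hi : i ∈ T
  · exact mem_CT.1 (hle ht) i hi
  obtain ⟨j, hj⟩ := h.perm t (hN ht) i
  by_cases hji : j = i
  · rw [hji] at hj
    exact mul_inv_eq_iff_eq_mul.1 hj
  exfalso
  obtain ⟨m, hm⟩ := h.perm t⁻¹ (inv_mem (hN ht)) i
  rw [inv_inv] at hm
  have hmi : m ≠ i := by
    rintro rfl
    apply hji
    refine h.inj ?_
    rw [← hj]
    calc t * z m * t⁻¹ = t * (t⁻¹ * z m * t) * t⁻¹ := by rw [hm]
      _ = z m := by group
  obtain ⟨ρ, hρ, hρW, hρJ⟩ := h.exists_rho i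
  have hρC : ρ ∈ CT z T := mem_CT.2 fun l hl => hρ l fun e => hi (e ▸ hl)
  have hg : t * (ρ * t⁻¹ * ρ⁻¹) ∈ o2 (CT z T) :=
    mul_mem ht ((mem_normalizer_iff.1 (hCn hρC) _).1 (inv_mem ht))
  have hgJ := h.norm_ZJ (hN hg)
  have hρm : ρ * z m = z m * ρ := hρ m hmi
  have e : (t * (ρ * t⁻¹ * ρ⁻¹)) * (ρ * z i * ρ⁻¹) * (t * (ρ * t⁻¹ * ρ⁻¹))⁻¹ = z i := by
    calc (t * (ρ * t⁻¹ * ρ⁻¹)) * (ρ * z i * ρ⁻¹) * (t * (ρ * t⁻¹ * ρ⁻¹))⁻¹
        = t * (ρ * (t⁻¹ * z i * t) * ρ⁻¹) * t⁻¹ := by group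
      _ = t * (ρ * z m * ρ⁻¹) * t⁻¹ := by rw [hm]
      _ = t * z m * t⁻¹ := by rw [hρm, mul_inv_cancel_right]
      _ = t * (t⁻¹ * z i * t) * t⁻¹ := by rw [hm]
      _ = z i := by group
  apply hρJ
  refine (mem_normalizer_iff.1 hgJ _).2 ?_
  rw [e]
  exact h.zJ i

/-- **`O₂(C_T) ≤ B`** -/
theorem o2_CT_le_B : o2 (CT z T) ≤ B := by
  have hB : B ≤ normalizer (o2 (CT z T) : Set G) := (h.B_le_CT T).trans (le_normalizer_o2 _)
  have h1 : IsPGroup 2 (B ⊔ o2 (CT z T) : Subgroup G) :=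
    IsPGroup.to_sup_of_normal_right' h.two (o2_isPGroup _) hB
  have h2 := h.syl.2.2 _ (sup_le h.syl.1 (h.o2_CT_le_cent T)) h1 le_sup_left
  exact le_sup_right.trans h2.le

/-- `O₂(C_T) ≤ O₂(X)` for `C(ZJ) ≤ X ≤ C_T` -/
theorem o2_CT_le_of_le {X : Subgroup G} (h1 : centralizer (ZJ : Set G) ≤ X) (h2 : X ≤ CT z T) :
    o2 (CT z T) ≤ o2 X :=
  MinSimple.Basic.o2_normal_le_o2 ((h.o2_CT_le_cent T).trans h1) h2

theorem o2_CT_le_o2 : o2 (CT z T) ≤ o2 (centralizer (ZJ : Set G)) :=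
  h.o2_CT_le_of_le T le_rfl (h.D_le_CT T)

variable {T}

/-- `C_T` has characteristic 2 -/
theorem char2_CT (hT : T.Nonempty) : CT z T ⊓ centralizer (o2 (CT z T) : Set G) ≤ o2 (CT z T) := by
  have e : CT z T = centralizer ((closure (z '' T) : Subgroup G) : Set G) := (centralizer_closure _).symm
  have hle : closure (z '' T) ≤ ZJ := by
    rw [closure_le]
    rintro _ ⟨l, -, rfl⟩
    exact h.zJ l
  rw [e]
  refine NOne.LemmaT.char2_centralizer h.c2 (h.two.to_le (hle.trans h.ZJB)) ?_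
  obtain ⟨l, hl⟩ := hT
  intro e1
  have h1 : z l ∈ closure (z '' T) := subset_closure ⟨l, hl, rfl⟩
  rw [e1, mem_bot] at h1
  exact h.ne l h1

theorem ZJ_le_zc (hT : T.Nonempty) : ZJ ≤ zc (o2 (CT z T)) := by
  have h1 : ZJ ≤ centralizer (o2 (CT z T) : Set G) := le_centralizer_iff.1 (h.o2_CT_le_cent T)
  intro x hx
  have h2 : x ∈ CT z T := mem_CT.2 fun l _ => h.JJ hx (h.zJ l)
  exact mem_zc.2 ⟨h.char2_CT hT ⟨h2, h1 hx⟩, h.sqJ hx, fun y hy => mem_centralizer_iff.1 (h1 hx) y hy⟩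

/-- **`E_T ≤ Ω₁Z(O₂(C_T))`** -/
theorem ET_le_zc (hT : T.Nonempty) : ET ZJ z T ≤ zc (o2 (CT z T)) := by
  have hCn : CT z T ≤ normalizer (zc (o2 (CT z T)) : Set G) :=
    (le_normalizer_o2 _).trans (normalizer_le_normalizer_zc _)
  refine NoFF.Basic.V_le fun p hp x hx => ?_
  rw [NoFF.Basic.mem_conj] at hx
  have h1 := (mem_normalizer_iff.1 (hCn hp) _).1 (h.ZJ_le_zc hT hx)
  have e : p * (p⁻¹ * x * p) * p⁻¹ = x := by group
  rwa [e] at h1

theorem ET_le_o2 (hT : T.Nonempty) : ET ZJ z T ≤ o2 (CT z T) := (h.ET_le_zc hT).trans (zc_le _)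

/-- `E_T ≤ O₂(X)` for `C(ZJ) ≤ X ≤ C_T` -/
theorem ET_le_of_le (hT : T.Nonempty) {X : Subgroup G} (h1 : centralizer (ZJ : Set G) ≤ X)
    (h2 : X ≤ CT z T) : ET ZJ z T ≤ o2 X := (h.ET_le_o2 hT).trans (h.o2_CT_le_of_le T h1 h2)

/-- `E_T ≤ O₂(C(ZJ))` -/
theorem ET_le_O (hT : T.Nonempty) : ET ZJ z T ≤ o2 (centralizer (ZJ : Set G)) :=
  (h.ET_le_o2 hT).trans (h.o2_CT_le_o2 T)

theorem eab_ET (hT : T.Nonempty) : IsElementaryAbelian 2 (ET ZJ z T) := by
  rw [eab_iff]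
  constructor
  · intro x hx
    rw [mem_centralizer_iff]
    intro y hy
    exact (mem_zc.1 (h.ET_le_zc hT hx)).2.2 y (h.ET_le_o2 hT hy)
  · exact fun x hx => (mem_zc.1 (h.ET_le_zc hT hx)).2.1

/-! ### `Y_j`, `N_j` -/

omit h in
theorem compl_one_ne (hk : ∀ i j : ι, ∃ l, l ≠ i ∧ l ≠ j) (j : ι) : (({j} : Set ι)ᶜ).Nonempty := by
  obtain ⟨l, h1, -⟩ := hk j j
  exact ⟨l, h1⟩

omit h in
theorem compl_two_ne (hk : ∀ i j : ι, ∃ l, l ≠ i ∧ l ≠ j) (i j : ι) : (({i, j} : Set ι)ᶜ).Nonempty := by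
  obtain ⟨l, h1, h2⟩ := hk i j
  exact ⟨l, by simp [h1, h2]⟩

theorem D_le (j : ι) : centralizer (ZJ : Set G) ≤ Yc z j := h.D_le_CT _

theorem B_le (j : ι) : B ≤ Yc z j := h.B_le_CT _

theorem mem_N (j : ι) : z j ∈ Nc z j := by
  have := NoFF.Basic.Z_le_V (Z := zpowers (z j)) (one_mem (Yc z j))
  rw [map_one, one_smul] at this
  exact this (mem_zpowers _)

theorem stab (j : ι) : Yc z j ⊓ centralizer ({z j} : Set G) = centralizer (ZJ : Set G) := by
  apply le_antisymm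
  · rintro x ⟨hx, hxj⟩
    refine h.mem_D fun i => ?_
    by_cases hi : i = j
    · subst hi
      exact mem_centralizer_singleton_iff.1 hxj
    · exact mem_Yc.1 hx i hi
  · exact le_inf (h.D_le j) fun x hx => mem_centralizer_singleton_iff.2 (h.D_comm hx j)

/-- an element of `N(B)` which centralises all `z l`, `l ≠ j`, is in `D` -/
theorem norm_Y (j : ι) : Yc z j ⊓ normalizer (B : Set G) ≤ centralizer (ZJ : Set G) := by
  rintro g ⟨hg, hgB⟩
  rw [← h.stab j]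
  refine ⟨hg, mem_centralizer_singleton_iff.2 ?_⟩
  obtain ⟨m, hm⟩ := h.perm g hgB j
  have hmj : m = j := by
    by_contra hne
    have h1 : g * z m * g⁻¹ = z m := by rw [mem_Yc.1 hg m hne]; group
    have h2 : z j = z m := mul_left_cancel (mul_right_cancel (hm.trans h1.symm))
    exact hne (h.inj h2).symm
  subst hmj
  exact mul_inv_eq_iff_eq_mul.1 hm

/-- **`B` is Sylow in `Y_j`** -/
theorem syl_Y (j : ι) : Syl B (Yc z j) := by
  refine ⟨h.B_le j, h.two, fun R hR h2 hBR => ?_⟩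
  have h3 : R ≤ centralizer (ZJ : Set G) := fun r hr => h.norm_Y j ⟨hR hr, h.wc R h2 hBR hr⟩
  exact h.syl.2.2 R h3 h2 hBR

/-- Frattini in `N(ZJ)` -/
theorem frattini {g : G} (hg : g ∈ normalizer (ZJ : Set G)) :
    ∃ d ∈ centralizer (ZJ : Set G), ∃ n ∈ normalizer (B : Set G), g = d * n := by
  have hgD : cj g (centralizer (ZJ : Set G)) = centralizer (ZJ : Set G) := by
    rw [cj_centralizer, cj_eq_of_mem_normalizer hg]
  have h1 : Syl (cj g B) (centralizer (ZJ : Set G)) := by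
    refine ⟨by rw [← hgD]; exact cj_mono g h.syl.1, isPGroup_cj g h.two, fun R hR h2 hBR => ?_⟩
    have h3 : cj g⁻¹ R ≤ centralizer (ZJ : Set G) := by
      have := cj_mono g⁻¹ (hR.trans hgD.ge)
      rwa [cj_inv_cj] at this
    have h4 : B ≤ cj g⁻¹ R := by
      have := cj_mono g⁻¹ hBR
      rwa [cj_inv_cj] at this
    have h5 := h.syl.2.2 _ h3 (isPGroup_cj g⁻¹ h2) h4
    rw [← h5, cj_cj_inv]
  obtain ⟨d, hd, e⟩ := ZN.ChoiceSit.syl_conj h.syl h1
  refine ⟨d, hd, d⁻¹ * g, ?_, by group⟩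
  rw [mem_normalizer_iff_cj, ← cj_cj, ← e, cj_inv_cj]

end Bw

end Cfsg.Agent.Omega.EDel.BxW

end

section


/-!
# The universal frame over `B` with WEAK UNI, `q = 2`, from the frame `Fg` (helper165 #26684)

* `WeakPar B W Z ZJ R` : some `Z i` is moved by `R` inside `W i ⊔ ZJ`, and `R` centralises the other `Z l`;
* `of_fgW` : port of `BxF.of_fg'`; a block over `B` may be of torus type.
-/

set_option autoImplicit false
set_option linter.unusedSectionVars false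

namespace Cfsg.Agent.Omega.EDel.BxW

open Subgroup Cfsg Cfsg.Agent.ZN.ChoiceBase
open Cfsg.Agent.ZN (zc zl o2)
open Cfsg.Agent.ZN.ChoiceSit (Syl o2_le_syl)
open Cfsg.Agent.Omega.OM Cfsg.Agent.Omega.OM.Uni
open Cfsg.Agent.Omega.NO3S.EThree.Frame
open Cfsg.Agent.Omega.Node.MultiOf (FBl)
open Cfsg.Agent.Omega.EDel.BxF (Fg_exists_mv Fg_ZJ_le exists_gen_two)
open Cfsg.Agent.MinSimple.MinParabolic (IsMinPar)
open scoped Pointwise

universe u

variable {G : Type u} [Group G]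

/-- **Weak UNI for one `R`.** -/
def WeakPar {ι : Type} (W Z : ι → Subgroup G) (ZJ R : Subgroup G) : Prop :=
  ∃ i, (∃ r ∈ R, cj r (Z i) ≤ W i ⊔ ZJ ∧ ¬ cj r (Z i) ≤ ZJ) ∧ ∀ l, l ≠ i → R ≤ centralizer (Z l : Set G)

/-- **The universal frame with weak UNI from `Fg`.** -/
theorem of_fgW [Finite G] {ι : Type} [Finite ι] {S : Sylow 2 G} {K B ZJ Q V : Subgroup G} {L W Z C : ι → Subgroup G}
    (c2 : IsCharacteristicTwoType G) (lb : LevD.LB S K B ZJ) (fr : Fg B Q V ZJ L W Z C 2)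
    (perm : ∀ g ∈ normalizer (B : Set G), ∀ i, ∃ j, cj g (Z i) = Z j)
    (hb : ∀ R : Subgroup G, (∃ l, R ≤ centralizer (Z l : Set G)) → IsMinPar B R → Syl B R →
      R ⊓ centralizer (o2 R : Set G) ≤ o2 R → ¬ K ≤ o2 R → ¬ R ≤ centralizer (zc B : Set G) →
      (∃ i, R ≤ L i ⊔ centralizer ((W i ⊔ ZJ : Subgroup G) : Set G) ⊔ B) ∨ WeakPar W Z ZJ R)
    (three : ∀ i j : ι, ∃ l, l ≠ i ∧ l ≠ j) :
    ∃ z : ι → G, (∀ i x, x ∈ Z i ↔ x = 1 ∨ x = z i) ∧ Bw B K ZJ L W z := by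
  have h1 : ∀ i, ∃ v, v ≠ 1 ∧ ∀ x, x ∈ Z i ↔ x = 1 ∨ x = v := fun i => exists_gen_two (fr.cardZ i)
  choose z hz1 hz using h1
  have hzZ : ∀ i, z i ∈ Z i := fun i => (hz i _).2 (Or.inr rfl)
  have hzW : ∀ i, z i ∈ W i := fun i => (fr.blk i).ZV (hzZ i)
  have hzJ : ∀ i, z i ∈ ZJ := fun i => fr.Z_le i (hzZ i)
  have hnW : ∀ i, L i ≤ normalizer (W i : Set G) := fun i l hl => by
    rw [mem_normalizer_iff_cj]
    refine Subgroup.eq_of_le_of_card_ge ?_ (by rw [card_cj])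
    rintro _ ⟨w, hw, rfl⟩
    exact (fr.blk i).nV l hl w hw
  have hzC : ∀ i j, i ≠ j → z j ∈ C i := fun i j hij => fr.WjC i j hij (hzW j)
  have hLY : ∀ i l, l ≠ i → L i ≤ centralizer ({z l} : Set G) := fun i l hl x hx =>
    mem_centralizer_singleton_iff.2 (fr.LC i x hx (z l) (hzJ l) (hzC i l hl.symm))
  have hLmv : ∀ i, ¬ L i ≤ centralizer ({z i} : Set G) := fun i hle => by
    obtain ⟨l, hl, hmv⟩ := Fg_exists_mv fr i
    have h2 : l * z i = z i * l := mem_centralizer_singleton_iff.1 (hle hl)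
    refine hmv (Subgroup.eq_of_le_of_card_ge ?_ (card_cj _ _).ge)
    rintro _ ⟨x, hx, rfl⟩
    rcases (hz i x).1 hx with rfl | rfl
    · simp
    · change l * z i * l⁻¹ ∈ Z i
      rw [h2, mul_inv_cancel_right]
      exact hzZ i
  have hWJ : ∀ i, ∀ x ∈ W i, x ∈ ZJ → x = 1 ∨ x = z i := fun i x hx hxJ =>
    (hz i x).1 ((fr.blk i).toMd.mem_Z_iff.2 ⟨hx, ((fr.mem_ZJ x).1 hxJ).2⟩)
  have hgen : ZJ ≤ closure (Set.range z) := by
    refine (Fg_ZJ_le fr).trans (iSup_le fun i x hx => ?_)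
    rcases (hz i x).1 hx with rfl | rfl
    · exact one_mem _
    · exact subset_closure ⟨i, rfl⟩
  refine ⟨z, hz, ?_⟩
  exact
    { c2 := c2
      two := lb.Bp
      wc := fun T hT hBT => lb.two_le hT hBT
      syl := lb.syl
      zJB := fr.zcB.ge
      nB := by
        rw [← fr.zcB]
        exact Cfsg.Agent.MinSimple.VModule.normalizer_le_normalizer_zc B
      WzB := fun i x hx hb' => (fr.mem_ZJ x).2 ⟨fr.WV i hx, hb'⟩
      zJ := hzJ
      gen := hgen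
      ne := hz1
      inj := by
        intro i j e
        by_contra hij
        have h2 : z i ∈ W i ⊓ C i := ⟨hzW i, e ▸ hzC i j hij⟩
        rw [fr.dir i, mem_bot] at h2
        exact hz1 i h2
      zW := hzW
      WB := fun i => (fr.WV i).trans fr.VB
      cardW := fun i => by rw [(fr.blk i).card, fr.cardZ i]
      sqW := fun i x hx => fr.Vsq (fr.WV i hx)
      WJ := hWJ
      BW := fun i b hb' x hx => (hz i _).1 ((fr.blk i).com b hb' x hx)
      LY := hLY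
      LW := hnW
      Lmv := hLmv
      perm := by
        intro g hg i
        obtain ⟨j, hj⟩ := perm g hg i
        refine ⟨j, ?_⟩
        have h2 : g * z i * g⁻¹ ∈ Z j := by
          rw [← hj]
          exact ⟨z i, hzZ i, rfl⟩
        rcases (hz j _).1 h2 with h3 | h3
        · exact absurd (conj_eq_one_iff.1 h3) (hz1 i)
        · exact h3
      nJ := fun T hT hK => lb.nrm T hT hK
      par := by
        rintro R ⟨l, hl⟩ hR hT hc hK hJ
        have hc1 : ∀ m, R ≤ centralizer (Z m : Set G) → R ≤ centralizer ({z m} : Set G) := fun m hm =>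
          hm.trans (centralizer_le (Set.singleton_subset_iff.2 (hzZ m)))
        rcases hb R ⟨l, by
          intro r hr
          rw [mem_centralizer_iff]
          intro x hx
          rcases (hz l x).1 hx with rfl | rfl
          · simp
          · exact (mem_centralizer_singleton_iff.1 (hl hr)).symm⟩ hR hT hc hK (by rw [fr.zcB]; exact hJ) with
          ⟨i, hi⟩ | ⟨i, ⟨r, hr, h2, h3⟩, h4⟩
        · have hRW : R ≤ normalizer (W i : Set G) := by
            refine hi.trans (sup_le (sup_le (hnW i) ?_) ?_)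
            · refine le_trans (centralizer_le ?_) (centralizer_le_normalizer _)
              exact_mod_cast (le_sup_left : W i ≤ W i ⊔ ZJ)
            · exact (fr.blk i).BL.trans (hnW i)
          have hRc : ∀ m, m ≠ i → R ≤ centralizer ({z m} : Set G) := fun m hm =>
            hi.trans (sup_le (sup_le (hLY i m hm) (centralizer_le (Set.singleton_subset_iff.2 (mem_sup_right (hzJ m)))))
              (lb.Bc.trans (centralizer_le (Set.singleton_subset_iff.2 (hzJ m)))))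
          refine ⟨i, ?_, hRc⟩
          by_contra hcon
          push Not at hcon
          refine hJ fun r hr => ?_
          have h5 : ∀ m, r * z m = z m * r := fun m => by
            by_cases hm : m = i
            · subst hm
              have h6 : r * z m * r⁻¹ ∈ W m := (mem_normalizer_iff.1 (hRW hr) _).1 (hzW m)
              rcases hWJ m _ h6 (hcon r hr (mem_sup_left h6)) with h7 | h7
              · exact absurd (conj_eq_one_iff.1 h7) (hz1 m)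
              · exact mul_inv_eq_iff_eq_mul.1 h7
            · exact mem_centralizer_singleton_iff.1 (hRc m hm hr)
          have h6 : ZJ ≤ centralizer ({r} : Set G) := by
            refine hgen.trans ((closure_le _).2 ?_)
            rintro _ ⟨m, rfl⟩
            exact mem_centralizer_singleton_iff.2 (h5 m).symm
          rw [mem_centralizer_iff]
          exact fun y hy => mem_centralizer_singleton_iff.1 (h6 hy)
        · refine ⟨i, ⟨r, hr, h2 ⟨z i, hzZ i, rfl⟩, fun h5 => h3 ?_⟩, fun m hm => hc1 m (h4 m hm)⟩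
          rintro _ ⟨x, hx, rfl⟩
          rcases (hz i x).1 hx with rfl | rfl
          · simp
          · exact h5
      three := three }

end Cfsg.Agent.Omega.EDel.BxW

end
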