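import Cfsg.Agent.Mrg.Omega.EDel.BxW.Inst
import Cfsg.Agent.Mrg.Omega.EDel.ThmUEnd
import Cfsg.Agent.Mrg.Omega.EDel.Bx.Final


/-!
# THEOREM U from weak UNI (helper165 #26684) over the frame `Bw`

* `Bw.fb` : helper165's frame `FBW`;
* **`Bw.false_of`** : THEOREM U over `Bw` (nonlocality of `D` and the `L j`).
-/

set_option autoImplicit false
set_option linter.unusedSectionVars false

namespace Cfsg.Agent.Omega.EDel.BxW

open Subgroup Cfsg Cfsg.Agent.ZN.ChoiceBase
open Cfsg.Agent.ZN (zc zl o2)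
open Cfsg.Agent.ZN.ChoiceSit (Syl o2_le_syl syl_not_dvd)
open Cfsg.Agent.Omega.EK3 (CT mem_CT Yc Nc)
open Cfsg.Agent.Omega.EDel.ThmU (XX)
open Cfsg.Agent.Omega.EDel.BxF (X_eq Yc_eq syl_of_not_dvd)

universe u

variable {G : Type u} [Group G]

namespace Bw

variable [Finite G] {B J ZJ : Subgroup G} {ι : Type} {L W : ι → Subgroup G} {z : ι → G} (h : Bw B J ZJ L W z)
include h

/-- the frame `FBW` -/
theorem fb [Finite ι] (hML : ML.Final.MLK.{u, u}) (kg : ∀ T : Set ι, T.Nonempty → IsKGroup (CT z T)) :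
    FBW B (centralizer (ZJ : Set G)) ZJ z (Yc z) (Yp ZJ W z) (Nc z) where
  fr := h.toFr hML fun j => kg _ (compl_one_ne h.three j)
  two := h.two
  BD := h.BD
  syl := syl_not_dvd h.syl
  inj := h.inj
  ZJ_eq := h.closure_eq
  ZB := h.ZJB
  D_eq := rfl
  Y_eq := fun i => Yc_eq z i
  NB := fun _ hg => h.NB hg
  ch := fun l m _ => h.ch l m
  KX := fun l m _ => by
    unfold XX
    rw [X_eq]
    exact kg _ (compl_two_ne h.three l m)
  par := fun l m hlm hs hN P hP hPX => by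
    have hBX : B ≤ XX z l m := by
      unfold XX
      rw [X_eq]
      exact h.B_le_CT _
    exact h.par_pair hlm (syl_of_not_dvd hBX h.two hs) hN hP hPX

/-- **THEOREM U** over `Bw` -/
theorem false_of [Finite ι] [Nonempty ι] (hML : ML.Final.MLK.{u, u}) (hE : ML.Ex.Two.Ext.{u, u})
    (kg : ∀ T : Set ι, T.Nonempty → IsKGroup (CT z T))
    (nl : ∀ R : Subgroup G, R ≠ ⊥ → IsPGroup 2 R →
      ¬ (centralizer (ZJ : Set G) ≤ normalizer (R : Set G) ∧ ∀ j, L j ≤ normalizer (R : Set G))) : False :=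
  (h.fb hML kg).false_of hML hE h.O_ne (h.nlp nl)

end Bw

end Cfsg.Agent.Omega.EDel.BxW
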