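import Cfsg.Agent.Mrg.Omega.EK3.FrStar


/-!
# THEOREM U from weak UNI (helper165 #26684), point (a)

`B` Sylow in `Y`, `z ∈ ZJ = Ω₁(Z(B))`, `N_Y(B) ≤ C(z)`, `W ∋ z` a four-group of `B`, all of whose involutions are `Y`-conjugate
to `z`; `r ∈ R`, `B ≤ R ≤ Y`, with `z ^ r ∈ W ZJ - ZJ`.

* `burn` : Burnside;
* `mem_W` : `g ∈ Y`, `g z g⁻¹ ∈ W ⊔ ZJ - ZJ` ==> `g z g⁻¹ ∈ W`;
* **`wsub`** : `W# ⊆ z ^ R`;
* **`nY`** : `N_Y(W ⊔ ZJ) ≤ R C_Y(z)`.
-/

set_option autoImplicit false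
set_option linter.unusedSectionVars false

namespace Cfsg.Agent.Omega.EDel.BxW

open Subgroup Cfsg Cfsg.Agent.ZN.ChoiceBase
open Cfsg.Agent.ZN (zc zl o2)
open Cfsg.Agent.ZN.ChoiceSit (Syl)

universe u

variable {G : Type u} [Group G]

/-- Burnside -/
theorem burn [Finite G] {B Y : Subgroup G} (syl : Syl B Y) {x g : G} (hx : ∀ b ∈ B, b * x = x * b) (hg : g ∈ Y)
    (hgx : ∀ b ∈ B, b * (g * x * g⁻¹) = (g * x * g⁻¹) * b) :
    ∃ n ∈ Y ⊓ normalizer (B : Set G), n * x * n⁻¹ = g * x * g⁻¹ := by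
  set x' := g * x * g⁻¹ with hx'
  set C := Y ⊓ centralizer ({x'} : Set G) with hC
  have hCY : C ≤ Y := inf_le_left
  have h1 : Syl B C := ⟨le_inf syl.1 fun b hb => mem_centralizer_singleton_iff.2 (hgx b hb), syl.2.1,
    fun R hR h2 hBR => syl.2.2 R (hR.trans hCY) h2 hBR⟩
  have hYg : cj g Y = Y := cj_eq_of_mem_normalizer (le_normalizer hg)
  have h2 : Syl (cj g B) C := by
    refine ⟨le_inf ?_ ?_, isPGroup_cj g syl.2.1, fun R hR h2 hBR => ?_⟩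
    · rw [← hYg]
      exact cj_mono g syl.1
    · intro b hb
      rw [mem_cj] at hb
      refine mem_centralizer_singleton_iff.2 ?_
      have h3 := hx _ hb
      calc b * x' = g * ((g⁻¹ * b * g) * x) * g⁻¹ := by rw [hx']; group
        _ = g * (x * (g⁻¹ * b * g)) * g⁻¹ := by rw [h3]
        _ = x' * b := by rw [hx']; group
    · have h3 : cj g⁻¹ R ≤ Y := by
        have h4 := cj_mono g⁻¹ ((hR.trans hCY).trans hYg.ge)
        rwa [cj_inv_cj] at h4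
      have h4 : B ≤ cj g⁻¹ R := by
        have h5 := cj_mono g⁻¹ hBR
        rwa [cj_inv_cj] at h5
      have h5 := syl.2.2 _ h3 (isPGroup_cj g⁻¹ h2) h4
      rw [← h5, cj_cj_inv]
  obtain ⟨d, hd, e⟩ := ZN.ChoiceSit.syl_conj h1 h2
  refine ⟨d⁻¹ * g, mem_inf.2 ⟨mul_mem (inv_mem (hCY hd)) hg, ?_⟩, ?_⟩
  · rw [mem_normalizer_iff_cj, ← cj_cj, ← e, cj_inv_cj]
  · have h3 : d * x' = x' * d := mem_centralizer_singleton_iff.1 hd.2
    calc d⁻¹ * g * x * (d⁻¹ * g)⁻¹ = d⁻¹ * (x' * d) := by rw [hx']; group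
      _ = x' := by rw [← h3]; group

section

variable [Finite G] {B ZJ W Y R : Subgroup G} {z : G} (syl : Syl B Y) (zJB : ∀ x ∈ ZJ, ∀ b ∈ B, b * x = x * b)
  (zJ : z ∈ ZJ)
  (nB : ∀ n ∈ Y ⊓ normalizer (B : Set G), n * z = z * n)
  (dec : ∀ x ∈ ZJ, ∃ c ∈ ZJ, (∀ y ∈ Y, y * c = c * y) ∧ (x = c ∨ x = z * c))
  (zW : z ∈ W) (WB : W ≤ B) (sqW : ∀ x ∈ W, x ^ 2 = 1)
  (tr : ∀ w ∈ W, w ≠ 1 → ∃ l ∈ Y, l * w * l⁻¹ = z)

include syl zJB zJ nB

/-- an element of `Y` which moves `z` inside `ZJ` centralises `z` -/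
theorem fix_of_mem {g : G} (hg : g ∈ Y) (h : g * z * g⁻¹ ∈ ZJ) : g * z * g⁻¹ = z := by
  have hc := zJB
  obtain ⟨n, hn, e⟩ := burn syl (hc z zJ) hg (hc _ h)
  rw [← e, nB n hn, mul_inv_cancel_right]

include dec zW WB tr

theorem mem_W {g : G} (hg : g ∈ Y) (h1 : g * z * g⁻¹ ∈ W ⊔ ZJ) (h2 : g * z * g⁻¹ ∉ ZJ) : g * z * g⁻¹ ∈ W := by
  have hc := zJB
  have hWC : W ≤ centralizer (ZJ : Set G) := fun w hw =>
    mem_centralizer_iff.2 fun x hx => (hc x hx w (WB hw)).symm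
  have hWN : W ≤ normalizer (ZJ : Set G) := hWC.trans (centralizer_le_normalizer _)
  have h3 : g * z * g⁻¹ ∈ ((W ⊔ ZJ : Subgroup G) : Set G) := h1
  rw [coe_mul_of_left_le_normalizer_right _ _ hWN] at h3
  obtain ⟨w, hw, c', hc', e⟩ := Set.mem_mul.1 h3
  -- `x = w₁ c` with `c` central in `Y`
  obtain ⟨w₁, hw₁, c, hcJ, hcY, e1⟩ : ∃ w₁ ∈ W, ∃ c ∈ ZJ, (∀ y ∈ Y, y * c = c * y) ∧ g * z * g⁻¹ = w₁ * c := by
    obtain ⟨c, hc1, hc2, hc3⟩ := dec c' hc'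
    rcases hc3 with hc3 | hc3
    · exact ⟨w, hw, c, hc1, hc2, by rw [← e, hc3]⟩
    · exact ⟨w * z, mul_mem hw zW, c, hc1, hc2, by rw [← e, hc3, mul_assoc]⟩
  have hw1 : w₁ ≠ 1 := by
    rintro rfl
    apply h2
    rw [e1, one_mul]
    exact hcJ
  obtain ⟨l, hl, hlw⟩ := tr w₁ hw₁ hw1
  have e2 : (l * g) * z * (l * g)⁻¹ = z * c := by
    calc (l * g) * z * (l * g)⁻¹ = l * (g * z * g⁻¹) * l⁻¹ := by group
      _ = (l * w₁ * l⁻¹) * (l * c * l⁻¹) := by rw [e1]; group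
      _ = z * c := by rw [hlw, hcY l hl, mul_inv_cancel_right]
  have e3 := fix_of_mem syl zJB zJ nB (mul_mem hl hg) (by rw [e2]; exact mul_mem zJ hcJ)
  rw [e2] at e3
  have e4 : c = 1 := mul_eq_left.1 e3
  rw [e1, e4, mul_one]
  exact hw₁

include sqW

/-- **`W# ⊆ z ^ R`** -/
theorem wsub (cardW : Nat.card W = 4) (WzB : ∀ x ∈ W, (∀ b ∈ B, b * x = x * b) → x ∈ ZJ) (BW : ∀ b ∈ B, ∀ x ∈ W, b * x * b⁻¹ * x⁻¹ = 1 ∨ b * x * b⁻¹ * x⁻¹ = z)
    (BR : B ≤ R) (RY : R ≤ Y) {r : G} (hr : r ∈ R) (h1 : r * z * r⁻¹ ∈ W ⊔ ZJ) (h2 : r * z * r⁻¹ ∉ ZJ) :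
    ∀ w ∈ W, w ≠ 1 → ∃ s ∈ R, s * z * s⁻¹ = w := by
  have hx := mem_W syl zJB zJ nB dec zW WB tr (RY hr) h1 h2
  set x := r * z * r⁻¹ with hxdef
  have hx1 : x ≠ 1 := fun h => h2 (h ▸ one_mem _)
  have hz1 : z ≠ 1 := fun h => hx1 (by rw [hxdef, h]; group)
  have hxz : x ≠ z := fun h => h2 (h ▸ zJ)
  have hzx : z * x = x * z := by
    have h3 := sqW _ (mul_mem zW hx)
    have h4 := sqW _ zW
    have h5 := sqW _ hx
    calc z * x = (z * x) * ((x * z) * (x * z)⁻¹) := by group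
      _ = z * (x * x) * z * (x * z)⁻¹ := by group
      _ = (x * z)⁻¹ := by rw [← pow_two, h5, mul_one, ← pow_two, h4, one_mul]
      _ = z⁻¹ * x⁻¹ := by group
      _ = (x * z) := by
        have h6 : z⁻¹ = z := inv_eq_of_mul_eq_one_left (by rw [← pow_two, h4])
        have h7 : x⁻¹ = x := inv_eq_of_mul_eq_one_left (by rw [← pow_two, h5])
        rw [h6, h7]
        have h8 : (z * x) * (z * x) = 1 := by rw [← pow_two, h3]
        have h9 : z * x = (z * x)⁻¹ := (inv_eq_of_mul_eq_one_left h8).symm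
        rw [h9, mul_inv_rev, h6, h7]
  -- the elements of `W`
  have hcov : ∀ w ∈ W, w = 1 ∨ w = z ∨ w = x ∨ w = z * x := by
    classical
    have hfin : (W : Set G).Finite := Set.toFinite _
    have hsub : ({1, z, x, z * x} : Finset G) ⊆ hfin.toFinset := by
      intro y hy
      rw [Set.Finite.mem_toFinset]
      simp only [Finset.mem_insert, Finset.mem_singleton] at hy
      rcases hy with rfl | rfl | rfl | rfl
      · exact one_mem _
      · exact zW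
      · exact hx
      · exact mul_mem zW hx
    have hc4 : ({1, z, x, z * x} : Finset G).card = 4 := by
      have a1 : z * x ≠ 1 := fun h => hxz (by
        have h6 : z⁻¹ = z := inv_eq_of_mul_eq_one_left (by rw [← pow_two, sqW _ zW])
        rw [← h6]
        exact (eq_inv_of_mul_eq_one_right h))
      have a2 : z * x ≠ z := fun h => hx1 (mul_eq_left.1 h)
      have a3 : z * x ≠ x := fun h => hz1 (mul_eq_right.1 h)
      rw [Finset.card_insert_of_notMem, Finset.card_insert_of_notMem, Finset.card_insert_of_notMem,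
        Finset.card_singleton]
      · simp only [Finset.mem_singleton]
        exact a3.symm
      · simp only [Finset.mem_insert, Finset.mem_singleton]
        rintro (h | h)
        · exact hxz h.symm
        · exact a2 h.symm
      · simp only [Finset.mem_insert, Finset.mem_singleton]
        rintro (h | h | h)
        · exact hz1 h.symm
        · exact hx1 h.symm
        · exact a1 h.symm
    have hcW : hfin.toFinset.card = 4 := by
      rw [← Set.ncard_eq_toFinset_card (W : Set G) hfin, ← cardW]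
      rfl
    have heq := Finset.eq_of_subset_of_card_le hsub (by rw [hcW, hc4])
    intro w hw
    have hw' : w ∈ hfin.toFinset := (Set.Finite.mem_toFinset _).2 hw
    rw [← heq] at hw'
    simpa only [Finset.mem_insert, Finset.mem_singleton] using hw'
  -- `B` moves `x`
  obtain ⟨b, hb, hbx⟩ : ∃ b ∈ B, b * x ≠ x * b := by
    by_contra hcon
    push Not at hcon
    exact h2 (WzB x hx hcon)
  have hbx' : b * x * b⁻¹ = z * x := by
    rcases BW b hb x hx with e | e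
    · exact absurd (mul_inv_eq_iff_eq_mul.1 (mul_inv_eq_one.1 e)) hbx
    · exact mul_inv_eq_iff_eq_mul.1 e
  intro w hw hw1
  rcases hcov w hw with e | e | e | e
  · exact absurd e hw1
  · exact ⟨1, one_mem _, by rw [e]; group⟩
  · exact ⟨r, hr, by rw [e]⟩
  · refine ⟨b * r, mul_mem (BR hb) hr, ?_⟩
    rw [e, ← hbx', hxdef]
    group

/-- **`N_Y(W ⊔ ZJ) ≤ R C_Y(z)`** -/
theorem nY (cardW : Nat.card W = 4) (WzB : ∀ x ∈ W, (∀ b ∈ B, b * x = x * b) → x ∈ ZJ) (BW : ∀ b ∈ B, ∀ x ∈ W, b * x * b⁻¹ * x⁻¹ = 1 ∨ b * x * b⁻¹ * x⁻¹ = z)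
    (BR : B ≤ R) (RY : R ≤ Y) {r : G} (hr : r ∈ R) (h1 : r * z * r⁻¹ ∈ W ⊔ ZJ) (h2 : r * z * r⁻¹ ∉ ZJ)
    {g : G} (hg : g ∈ Y) (hgW : g * z * g⁻¹ ∈ W ⊔ ZJ) : ∃ s ∈ R, ∃ d ∈ Y, d * z = z * d ∧ g = s * d := by
  by_cases h3 : g * z * g⁻¹ ∈ ZJ
  · have h4 := fix_of_mem syl zJB zJ nB hg h3
    exact ⟨1, one_mem _, g, hg, mul_inv_eq_iff_eq_mul.1 h4, (one_mul g).symm⟩
  · have h4 := mem_W syl zJB zJ nB dec zW WB tr hg hgW h3
    have h5 : g * z * g⁻¹ ≠ 1 := fun h => h3 (h ▸ one_mem _)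
    obtain ⟨s, hs, e⟩ := wsub syl zJB zJ nB dec zW WB sqW tr cardW WzB BW BR RY hr h1 h2 _ h4 h5
    refine ⟨s, hs, s⁻¹ * g, mul_mem (inv_mem (RY hs)) hg, ?_, by group⟩
    calc s⁻¹ * g * z = s⁻¹ * (g * z * g⁻¹) * g := by group
      _ = s⁻¹ * (s * z * s⁻¹) * g := by rw [e]
      _ = z * (s⁻¹ * g) := by group

end

end Cfsg.Agent.Omega.EDel.BxW
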